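import Cfsg.Agent.OddOrderCharacters.PF12.Frob
import Cfsg.Agent.OddOrderCharacters.PF12.NotTypeP
import Cfsg.Agent.OddOrderCharacters.PF10.TypeV
import Cfsg.Agent.OddOrderCharacters.PF11.Main

/-!
# Peterfalvi (12.7) for weak Type I (internal form of S1540)
-/

set_option autoImplicit false

open Cfsg Cfsg.Agent.OddOrderCharacters Cfsg.Agent.OddOrderCharacters.PFDefs

namespace Cfsg.Agent.OddOrderLocal.W.S1540w

/-- Peterfalvi (12.7): a maximal subgroup of (weak) Type I is a Frobenius group with kernel `M_F`. -/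
theorem result' {G : Type*} [Group G] [Finite G] (hG : IsMinSimpleOddOrder G) (M : Subgroup G)
    (hM : IsCoatom M) (hI : IsOfTypeI' M) : ∀ x ∈ fittingHallOf M, x ≠ 1 →
      M ⊓ Subgroup.centralizer ({x} : Set G) ≤ fittingHallOf M :=
  PF12.Frob.frobenius hG
    (fun hP => PF12.NotTypeP.typeI_L hG hP
      (fun N hN => PF10.TypeV.FTtype5_exclusion hG N hN)
      (fun N hN => PF11.Main.not_typeIV hG N hN)
      (fun N W₁ U W₂ hN h h3 => PF11.Main.typeIII_cyclic hG N W₁ U W₂ hN h h3)) hM hI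

end Cfsg.Agent.OddOrderLocal.W.S1540w
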