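import Cfsg.Agent.OddOrderCharacters.PF12.NoTypeIOnly
import Cfsg.Agent.OddOrderLocal.W.S1540w

/-!
# Peterfalvi (12.17) for weak Type I (internal form of S1541)
-/

set_option autoImplicit false
open Cfsg Cfsg.Agent.OddOrderCharacters.PFDefs

namespace Cfsg.Agent.OddOrderLocal.W.S1541w

/-- Peterfalvi (12.17): not all maximal subgroups are of (weak) Type I. -/
theorem result' {G : Type*} [Group G] [Finite G] (hG : IsMinSimpleOddOrder G) :
    ∃ M : Subgroup G, IsCoatom M ∧ ¬ IsOfTypeI' M :=
  Cfsg.Agent.OddOrderCharacters.PF12.NoTypeIOnly.not_all_typeI' hG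
    fun M hM hI => S1540w.result' hG M hM hI

/-- Peterfalvi (12.17): some maximal subgroup is of type P. -/
theorem exists_typeP {G : Type*} [Group G] [Finite G] (hG : IsMinSimpleOddOrder G) :
    ∃ M : Subgroup G, IsCoatom M ∧ IsOfTypeP M :=
  Cfsg.Agent.OddOrderCharacters.PF12.NoTypeIOnly.exists_typeP hG
    fun M hM hI => S1540w.result' hG M hM hI

end Cfsg.Agent.OddOrderLocal.W.S1541w
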