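-- Weak form of S1385 (B & G, Theorem I; type I in the sense of Peterfalvi) for the Feit-Thompson chain.
import Mathlib
import Cfsg.Prelude.Def_OddOrderLocal
import Cfsg.Agent.OddOrderCharacters.PFDefs
import Cfsg.Agent.OddOrderLocal.TheoremI
import Cfsg.Agent.OddOrderLocal.W.S1380w

set_option autoImplicit false
open Cfsg

namespace Cfsg.Agent.OddOrderLocal.W.S1385w

open Cfsg.Agent.OddOrderLocal Cfsg.Agent.OddOrderCharacters.PFDefs

/-- B & G, Theorem I: either every maximal subgroup is of type I', or there is the pair `S, T`. -/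
theorem result' {G : Type*} [Group G] [Finite G] (hG : Cfsg.IsMinSimpleOddOrder G) :
    (∀ M : Subgroup G, IsCoatom M → IsOfTypeI' M) ∨
      ∃ W₁ W₂ S T : Subgroup G, Cfsg.IsSelfNormalizingCyclic W₁ W₂ ∧ IsCoatom S ∧ IsCoatom T ∧
        Cfsg.IsComplIn ⁅S, S⁆ W₁ S ∧ Cfsg.IsComplIn ⁅T, T⁆ W₂ T ∧ S ⊓ T = W₁ ⊔ W₂ ∧
        (Cfsg.IsOfTypeII S ∨ Cfsg.IsOfTypeII T) ∧
        (Cfsg.IsOfTypeII S ∨ Cfsg.IsOfTypeIII S ∨ Cfsg.IsOfTypeIV S ∨ Cfsg.IsOfTypeV S) ∧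
        (Cfsg.IsOfTypeII T ∨ Cfsg.IsOfTypeIII T ∨ Cfsg.IsOfTypeIV T ∨ Cfsg.IsOfTypeV T) ∧
        ∀ M : Subgroup G, IsCoatom M → IsOfTypeI' M ∨ ∃ g : G, M = S.map (MulAut.conj g).toMonoidHom ∨
          M = T.map (MulAut.conj g).toMonoidHom :=
  TheoremI.structure_of hG (fun M => IsOfTypeI' M) fun M hM hk =>
    (S1380w.result' hG M hM).mp (Set.not_nonempty_iff_eq_empty.mp hk)

end Cfsg.Agent.OddOrderLocal.W.S1385w
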