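import Mathlib
import Cfsg.Prelude.Def_OddOrderLocal
import Cfsg.Agent.OddOrderCharacters.PFDefs
import Cfsg.Agent.OddOrderLocal.TypeCore
import Cfsg.Agent.OddOrderLocal.TypeFData
import Cfsg.Agent.OddOrderLocal.MinSimpleBasic
import Cfsg.Agent.S0004
import Cfsg.Agent.S1350
import Cfsg.Agent.S1352
import Cfsg.Agent.S1358
import Cfsg.Agent.S1361
import Cfsg.Agent.S1362
import Cfsg.Agent.S1365
import Cfsg.Agent.S1381
import Cfsg.Agent.S1382
import Cfsg.Agent.S1383

/-!
# S1390 with weak type I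

Same shape as S1390, with `IsOfTypeI'`, `typeA'` (the switch on type P) instead of the literal notions; for the
proof of the odd order theorem.  Does not use the literal S1380, S1385, S1390, S1391, S1440, S1537-S1542.
-/

set_option autoImplicit false
open Cfsg

namespace Cfsg.Agent.OddOrderLocal.W.S1390w

open Cfsg.Agent.OddOrderLocal
open Cfsg.Agent.OddOrderCharacters.PFDefs
open scoped Pointwise

/-- Conjugating a standard factorisation by an element of `M`. -/
theorem conj_decomp {G : Type*} [Group G] [Finite G] {M K U : Subgroup G}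
    (h : Cfsg.IsSigmaDecomposition M K U) {g : G} (hg : g ∈ M) :
    Cfsg.IsSigmaDecomposition M (K.map (MulAut.conj g).toMonoidHom)
      (U.map (MulAut.conj g).toMonoidHom) := by
  obtain ⟨hU, hL, hinf, hfac⟩ := h.compl
  have hM : M.map (MulAut.conj g).toMonoidHom = M := MinSimpleBasic.map_conj_of_mem hg
  have hS : (Cfsg.sigmaCore M).map (MulAut.conj g).toMonoidHom = Cfsg.sigmaCore M := by
    have := Cfsg.Agent.S1352.le_normalizer_sigmaCore M hg
    exact MinSimpleBasic.mem_normalizer_iff_map_conj.mp this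
  have hinj : Function.Injective (MulAut.conj g).toMonoidHom := (MulAut.conj g).injective
  refine ⟨?_, ⟨?_, ?_, ?_⟩, ⟨?_, ?_, ?_, ?_⟩, ?_⟩
  · have := h.cyclic
    exact isCyclic_of_surjective _ ((MulAut.conj g).toMonoidHom.subgroupMap_surjective K)
  · rw [← hM]; exact Subgroup.map_mono h.hall.1
  · intro p hp hd
    rw [MinSimpleBasic.card_map_conj] at hd
    exact h.hall.2.1 p hp hd
  · intro p hp hk hd
    have h9 : (K.map (MulAut.conj g).toMonoidHom).relIndex M = K.relIndex M := by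
      conv_lhs => rw [← hM]
      exact Subgroup.relIndex_map_map_of_injective _ _ hinj
    rw [h9] at hd
    exact h.hall.2.2 p hp hk hd
  · rw [← hM]; exact Subgroup.map_mono hU
  · rw [← hS, ← Subgroup.map_sup, ← hM]
    refine Subgroup.map_mono ?_
    rw [hM]; exact hL
  · rw [← hS, ← Subgroup.map_sup, ← Subgroup.map_inf _ _ _ hinj, hinf, Subgroup.map_bot]
  · intro m hm
    rw [← hM] at hm
    obtain ⟨m', hm', rfl⟩ := hm
    obtain ⟨a, ha, b, hb, rfl⟩ := hfac m' hm'
    refine ⟨_, Subgroup.mem_map_of_mem _ ha, _, ?_, map_mul _ a b⟩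
    rw [← hS, ← Subgroup.map_sup]
    exact Subgroup.mem_map_of_mem _ hb
  · intro x hx
    obtain ⟨k, hk, rfl⟩ := hx
    have h1 := h.normal hk
    rw [MinSimpleBasic.mem_normalizer_iff_map_conj] at h1 ⊢
    change (U.map (MulAut.conj g).toMonoidHom).map (MulAut.conj (g * k * g⁻¹)).toMonoidHom = _
    rw [← MinSimpleBasic.map_conj_mul, inv_mul_cancel_right, MinSimpleBasic.map_conj_mul, h1]

/-- Two complements (in the sense of `IsComplIn`, one on each side) of a Hall subgroup `H` of the solvable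
group `D`, `H` normalized by `D`, are conjugate. -/
theorem compl_conj {G : Type*} [Group G] [Finite G] {D H U V : Subgroup G}
    (hD : Group.IsSolvable D) (hH : (Nat.card H).Coprime (H.relIndex D))
    (hU : Cfsg.IsComplIn H U D) (hVD : V ≤ D) (hVi : V ⊓ H = ⊥)
    (hVf : ∀ m ∈ D, ∃ a ∈ V, ∃ b ∈ H, m = a * b) :
    ∃ g ∈ D, V.map (MulAut.conj g).toMonoidHom = U := by
  obtain ⟨hHD, hUD, hUi, hUf⟩ := hU
  have hcH : Nat.card (H.subgroupOf D) = Nat.card H :=
    Nat.card_congr (Subgroup.subgroupOfEquivOfLe hHD).toEquiv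
  have hcU : Nat.card (U.subgroupOf D) = Nat.card U :=
    Nat.card_congr (Subgroup.subgroupOfEquivOfLe hUD).toEquiv
  have hcV : Nat.card (V.subgroupOf D) = Nat.card V :=
    Nat.card_congr (Subgroup.subgroupOfEquivOfLe hVD).toEquiv
  have c1 : Subgroup.IsComplement' (H.subgroupOf D) (U.subgroupOf D) := by
    apply Subgroup.isComplement'_of_disjoint_and_mul_eq_univ
    · rw [disjoint_iff]
      rw [← Subgroup.map_eq_bot_iff_of_injective _ D.subtype_injective,
        Subgroup.map_inf _ _ _ D.subtype_injective, Subgroup.subgroupOf_map_subtype,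
        Subgroup.subgroupOf_map_subtype, inf_eq_left.mpr hHD, inf_eq_left.mpr hUD]
      exact hUi
    · rw [Set.eq_univ_iff_forall]
      rintro ⟨m, hm⟩
      obtain ⟨a, ha, b, hb, hab⟩ := hUf m hm
      exact Set.mem_mul.mpr ⟨⟨a, hHD ha⟩, ha, ⟨b, hUD hb⟩, hb, Subtype.ext hab.symm⟩
  have c2 : Subgroup.IsComplement' (V.subgroupOf D) (H.subgroupOf D) := by
    apply Subgroup.isComplement'_of_disjoint_and_mul_eq_univ
    · rw [disjoint_iff]
      rw [← Subgroup.map_eq_bot_iff_of_injective _ D.subtype_injective,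
        Subgroup.map_inf _ _ _ D.subtype_injective, Subgroup.subgroupOf_map_subtype,
        Subgroup.subgroupOf_map_subtype, inf_eq_left.mpr hHD, inf_eq_left.mpr hVD]
      exact hVi
    · rw [Set.eq_univ_iff_forall]
      rintro ⟨m, hm⟩
      obtain ⟨a, ha, b, hb, hab⟩ := hVf m hm
      exact Set.mem_mul.mpr ⟨⟨a, hVD ha⟩, ha, ⟨b, hHD hb⟩, hb, Subtype.ext hab.symm⟩
  have e1 : Nat.card (U.subgroupOf D) = (H.subgroupOf D).index := c1.symm.index_eq_card.symm
  have e2 : Nat.card (V.subgroupOf D) = (H.subgroupOf D).index := c2.index_eq_card.symm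
  have hcard : Nat.card D = (H.subgroupOf D).index * Nat.card (H.subgroupOf D) := by
    rw [mul_comm]; exact (Subgroup.card_mul_index _).symm
  have hcop : ((H.subgroupOf D).index).Coprime (Nat.card (H.subgroupOf D)) := by
    rw [hcH]; exact hH.symm
  obtain ⟨g, hg⟩ := Cfsg.Agent.S0004.result _ _ hcard hcop (V.subgroupOf D) (U.subgroupOf D) e2 e1
  refine ⟨g, g.2, ?_⟩
  have h3 := congrArg (Subgroup.map D.subtype) hg
  rw [Subgroup.subgroupOf_map_subtype, inf_eq_left.mpr hUD] at h3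
  rw [← h3]
  conv_lhs => rw [← inf_eq_left.mpr hVD, ← Subgroup.subgroupOf_map_subtype]
  change _ = (((V.subgroupOf D).map (MulAut.conj g).toMonoidHom).map D.subtype)
  rw [Subgroup.map_map, Subgroup.map_map]
  congr 1

/-- A maximal subgroup with `K ≠ 1` is of type P. -/
theorem isOfTypeP_of_ne_bot {G : Type*} [Group G] [Finite G] (hG : Cfsg.IsMinSimpleOddOrder G)
    {M K U : Subgroup G} (hM : IsCoatom M) (hKU : Cfsg.IsSigmaDecomposition M K U) (hK : K ≠ ⊥) :
    Cfsg.IsOfTypeP M := by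
  by_cases hU : U = ⊥
  · by_cases hF : Cfsg.fittingHallOf M = Cfsg.sigmaCore M
    · exact TypeFData.isOfTypeP_of_isOfTypeV ((Cfsg.Agent.S1383.result hG M hM K U hKU).mpr ⟨hK, hU, hF⟩)
    · rcases (Cfsg.Agent.S1382.result hG M hM K U hKU).mpr ⟨hK, hU, hF⟩ with h | h
      · exact TypeFData.isOfTypeP_of_isOfTypeIII h
      · exact TypeFData.isOfTypeP_of_isOfTypeIV h
  · exact TypeFData.isOfTypeP_of_isOfTypeII ((Cfsg.Agent.S1381.result hG M hM K U hKU).mpr ⟨hK, hU⟩)

/-- A maximal subgroup of Frobenius type has `K = 1`. -/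
theorem K_eq_bot_of_isOfTypeF {G : Type*} [Group G] [Finite G] (hG : Cfsg.IsMinSimpleOddOrder G)
    {M K U : Subgroup G} (hM : IsCoatom M) (hKU : Cfsg.IsSigmaDecomposition M K U)
    (hF : Cfsg.IsOfTypeF M) : K = ⊥ := by
  by_contra hK
  exact TypeFData.not_isOfTypeP_of_isOfTypeF hF (isOfTypeP_of_ne_bot hG hM hKU hK)

/-- The given complement is the `U` of a standard factorisation. -/
theorem exists_decomp {G : Type*} [Group G] [Finite G] (hG : Cfsg.IsMinSimpleOddOrder G)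
    (M : Subgroup G) (hM : IsCoatom M) (U : Subgroup G)
    (hU : (IsOfTypeI' M ∧ Cfsg.IsComplIn (Cfsg.fittingHallOf M) U M) ∨ (Cfsg.IsOfTypeII M ∧ Cfsg.IsComplIn (Cfsg.fittingHallOf M) U ⁅M, M⁆)) :
    Cfsg.fittingHallOf M = Cfsg.sigmaCore M ∧ (∃ K, Cfsg.IsSigmaDecomposition M K U) ∧
      typeA' M = {a | a ∈ U ⊔ Cfsg.sigmaCore M ∧ a ≠ 1 ∧ ∃ x ∈ Cfsg.sigmaCore M, x ≠ 1 ∧ a * x = x * a} := by
  obtain ⟨K, V, hKV⟩ := TypeCore.exists_sigmaDecomposition hG M hM
  obtain ⟨⟨hSM, hS1, hS2⟩, -, -⟩ := Cfsg.Agent.S1350.result hG M hM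
  rcases hU with ⟨hT, hc⟩ | ⟨hT, hc⟩
  · have hK := K_eq_bot_of_isOfTypeF hG hM hKV hT.1
    have hF := TypeCore.fittingHallOf_eq_of_K_eq_bot hG hM hKV hK
    rw [hF] at hc
    obtain ⟨hc1, hc2, hc3, hc4⟩ := hc
    have hsup : U ⊔ Cfsg.sigmaCore M = M := by
      apply le_antisymm (sup_le hc2 hc1)
      intro m hm
      obtain ⟨a, ha, b, hb, rfl⟩ := hc4 m hm
      exact mul_mem ((le_sup_right : Cfsg.sigmaCore M ≤ U ⊔ Cfsg.sigmaCore M) ha)
        ((le_sup_left : U ≤ U ⊔ Cfsg.sigmaCore M) hb)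
    refine ⟨hF, ⟨⊥, ?_, ?_, ⟨hc2, ?_, ?_, ?_⟩, bot_le⟩, ?_⟩
    · infer_instance
    · rw [← hK]; exact hKV.hall
    · rw [bot_sup_eq]; exact hc1
    · rw [bot_sup_eq, inf_comm]; exact hc3
    · intro m hm
      obtain ⟨a, ha, b, hb, hab⟩ := hc4 m⁻¹ (M.inv_mem hm)
      refine ⟨b⁻¹, U.inv_mem hb, a⁻¹, ?_, ?_⟩
      · rw [bot_sup_eq]; exact (Cfsg.sigmaCore M).inv_mem ha
      · rw [← mul_inv_rev, ← hab, inv_inv]
    · rw [typeA'_of_not_typeP (TypeFData.not_isOfTypeP_of_isOfTypeF hT.1), hF, hsup]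
  · obtain ⟨hK, hV⟩ := (Cfsg.Agent.S1381.result hG M hM K V hKV).mp hT
    have hF := TypeCore.fittingHallOf_eq_of_U_ne_bot hG hM hKV hV
    have hD := (Cfsg.Agent.S1365.result hG M hM K V hKV hK).1
    have hDM : ⁅M, M⁆ ≤ M := Subgroup.commutator_le.mpr fun a ha b hb =>
      M.mul_mem (M.mul_mem (M.mul_mem ha hb) (M.inv_mem ha)) (M.inv_mem hb)
    rw [hF] at hc
    obtain ⟨hc1, hc2, hc3, hc4⟩ := hc
    have hsup : U ⊔ Cfsg.sigmaCore M = ⁅M, M⁆ := by
      apply le_antisymm (sup_le hc2 hc1)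
      intro m hm
      obtain ⟨a, ha, b, hb, rfl⟩ := hc4 m hm
      exact mul_mem ((le_sup_right : Cfsg.sigmaCore M ≤ U ⊔ Cfsg.sigmaCore M) ha)
        ((le_sup_left : U ≤ U ⊔ Cfsg.sigmaCore M) hb)
    have hVD : V ≤ ⁅M, M⁆ := by rw [hD]; exact le_sup_left
    obtain ⟨hV1, hV2, hV3, hV4⟩ := hKV.compl
    have hsolv : Group.IsSolvable ↥⁅M, M⁆ :=
      MinSimpleBasic.isSolvable_of_ne_top hG (fun h => hM.1 (top_le_iff.mp (h ▸ hDM)))
    have hcop : (Nat.card (Cfsg.sigmaCore M)).Coprime ((Cfsg.sigmaCore M).relIndex ⁅M, M⁆) := by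
      by_contra hne
      obtain ⟨p, hp, h1, h2⟩ := Nat.Prime.not_coprime_iff_dvd.mp hne
      exact hS2 p hp (hS1 p hp h1) (h2.trans
        (Dvd.intro _ (Subgroup.relIndex_mul_relIndex _ _ _ hc1 hDM)))
    obtain ⟨g, hg, hgU⟩ := compl_conj hsolv hcop ⟨hc1, hc2, hc3, hc4⟩ hVD
      (le_bot_iff.mp ((inf_le_inf_left V le_sup_right).trans hV3.le)) (by
        intro m hm
        rw [hD] at hm
        have hn : V ≤ Subgroup.normalizer (Cfsg.sigmaCore M : Set G) :=
          hV1.trans (Cfsg.Agent.S1352.le_normalizer_sigmaCore M)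
        have h7 : m ∈ (↑(V ⊔ Cfsg.sigmaCore M) : Set G) := hm
        rw [Subgroup.coe_mul_of_left_le_normalizer_right _ _ hn] at h7
        obtain ⟨a, ha, b, hb, hab⟩ := Set.mem_mul.mp h7
        exact ⟨a, ha, b, hb, hab.symm⟩)
    refine ⟨hF, ⟨K.map (MulAut.conj g).toMonoidHom, ?_⟩, ?_⟩
    · rw [← hgU]; exact conj_decomp hKV (hDM hg)
    · rw [typeA'_of_typeP (TypeFData.isOfTypeP_of_isOfTypeII hT), TypeCore.typeCore_eq_sigmaCore hG M hM,
        hsup]

/-- Let G be a minimal simple group of odd order, M a maximal subgroup and H = M_F; suppose M is of Type I and U is a complement to H in M, or M is of Type II and U is a complement to H in M'. Then every Sylow subgroup of U is abelian with no elementary abelian subgroup of order p ^ 3; for every nonempty set X of non-identity elements of U centralizing a non-identity element of H, C_G(X) ≤ M and M is the unique maximal subgroup containing C_G(X); and A(M) with A₁(M) removed is a TI-subset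 of G. -/
theorem result' {G : Type*} [Group G] [Finite G] (hG : Cfsg.IsMinSimpleOddOrder G)
    (M : Subgroup G) (hM : IsCoatom M) (U : Subgroup G)
    (hU : (IsOfTypeI' M ∧ Cfsg.IsComplIn (Cfsg.fittingHallOf M) U M) ∨ (Cfsg.IsOfTypeII M ∧ Cfsg.IsComplIn (Cfsg.fittingHallOf M) U ⁅M, M⁆)) :
    (∀ (p : ℕ), p.Prime → ∀ P : Sylow p U, IsMulCommutative (P : Subgroup U) ∧ Cfsg.PRankLE p 2 (P : Subgroup U)) ∧
      (∀ X : Set G, X ⊆ (U : Set G) \ {1} → X.Nonempty → Cfsg.fittingHallOf M ⊓ Subgroup.centralizer X ≠ ⊥ →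
        Subgroup.centralizer X ≤ M ∧ ∀ L : Subgroup G, IsCoatom L → Subgroup.centralizer X ≤ L → L = M) ∧
      Cfsg.IsTISubset (typeA' M \ Cfsg.typeA1 M) := by
  obtain ⟨hF, ⟨K, hK⟩, hA⟩ := exists_decomp hG M hM U hU
  refine ⟨Cfsg.Agent.S1358.result hG M hM K U hK, ?_, ?_⟩
  · intro X hX hne hc
    rw [hF] at hc
    have hcl : Subgroup.centralizer ((Subgroup.closure X : Subgroup G) : Set G) =
        Subgroup.centralizer X := Subgroup.centralizer_closure X
    have h1 : Subgroup.closure X ≤ U := by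
      rw [Subgroup.closure_le]
      exact fun x hx => (hX hx).1
    have h2 : Subgroup.closure X ≠ ⊥ := by
      obtain ⟨x, hx⟩ := hne
      intro h
      rw [Subgroup.closure_eq_bot_iff] at h
      exact (hX hx).2 (h hx)
    have := Cfsg.Agent.S1361.result hG M hM K U hK (Subgroup.closure X) h1 h2 (by rw [hcl]; exact hc)
    rw [hcl] at this
    exact this
  · have h := Cfsg.Agent.S1362.result hG M hM K U hK
    have : typeA' M \ Cfsg.typeA1 M = Cfsg.sigmaA M U \ (Cfsg.sigmaCore M : Set G) := by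
      have hUM : U ⊔ Cfsg.sigmaCore M ≤ M :=
        sup_le hK.compl.1 (le_sup_right.trans hK.compl.2.1)
      unfold Cfsg.typeA1
      rw [TypeCore.typeCore_eq_sigmaCore hG M hM, hA]
      ext a
      constructor
      · rintro ⟨⟨h1, h2, x, h3, h4, h5⟩, h6⟩
        exact ⟨⟨⟨hUM h1, x, h3, h4, h5⟩, h1⟩, fun h7 => h6 ⟨h7, h2⟩⟩
      · rintro ⟨⟨⟨-, x, h3, h4, h5⟩, h1⟩, h6⟩
        refine ⟨⟨h1, ?_, x, h3, h4, h5⟩, fun h7 => h6 h7.1⟩
        rintro rfl
        exact h6 (Cfsg.sigmaCore M).one_mem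
    rw [this]
    exact h

end Cfsg.Agent.OddOrderLocal.W.S1390w
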