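import Cfsg.Agent.OddOrderLocal.W.S1380w
import Cfsg.Agent.OddOrderLocal.W.S1390w
import Cfsg.Agent.OddOrderLocal.W.S1391w
import Cfsg.Agent.S1389
import Cfsg.Agent.Solvable.Hall
import Cfsg.Agent.OddOrderCharacters.WeakTypes
import Cfsg.Agent.OddOrderCharacters.WeakEquivariance
import Cfsg.Agent.OddOrderCharacters.PF8.Core
import Cfsg.Agent.OddOrderCharacters.PF8.Types
import Cfsg.Agent.OddOrderCharacters.PF8.TypeOne
import Cfsg.Agent.OddOrderCharacters.PF8.Partition
import Cfsg.Agent.OddOrderCharacters.TypeSetsBasic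

/-!
# Peterfalvi (8.18), primed form of S1539
-/

set_option autoImplicit false
open Cfsg

namespace Cfsg.Agent.OddOrderLocal.W.S1539w

open scoped Pointwise
open Cfsg.Agent.OddOrderCharacters.TypeEquivariance
open Cfsg.Agent.OddOrderCharacters.PFDefs Cfsg.Agent.OddOrderCharacters
open Cfsg.Agent.OddOrderCharacters.WeakTypes Cfsg.Agent.OddOrderCharacters.WeakEquivariance
open Cfsg.Agent.OddOrderCharacters.TypeSetsBasic Cfsg.Agent.OddOrderCharacters.PF8

variable {G : Type*} [Group G] [Finite G]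

/-- Some complement of `M_F` in `M` (type I) or `M'` (type II) contains a given element of `A(M)`
lying outside `M_s`. -/
theorem exists_compl_mem {B H U : Subgroup G} (hB : Group.IsSolvable B)
    (hHB : H ≤ B) (hUB : U ≤ B) (hHn : B ≤ Subgroup.normalizer (H : Set G))
    (hinf : H ⊓ U = ⊥) (hmul : ∀ m ∈ B, ∃ a ∈ H, ∃ b ∈ U, m = a * b)
    (hH : (Nat.card H).Coprime (Nat.card U)) {x : G} (hx : x ∈ B)
    (hxH : (orderOf x).Coprime (Nat.card H)) :
    ∃ U' : Subgroup G, IsComplIn H U' B ∧ x ∈ U' := by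
  -- work inside `B`
  have hcompl : Subgroup.IsComplement' (H.subgroupOf B) (U.subgroupOf B) := by
    apply Subgroup.isComplement'_of_disjoint_and_mul_eq_univ
    · rw [disjoint_iff]
      ext ⟨y, hy⟩
      simp only [Subgroup.mem_inf, Subgroup.mem_subgroupOf, Subgroup.mem_bot]
      have : y ∈ H ⊓ U ↔ y ∈ (⊥ : Subgroup G) := by rw [hinf]
      rw [Subgroup.mem_inf, Subgroup.mem_bot] at this
      rw [this, Subtype.ext_iff]
      rfl
    · rw [Set.eq_univ_iff_forall]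
      rintro ⟨y, hy⟩
      obtain ⟨a, ha, b, hb, hab⟩ := hmul y hy
      refine ⟨⟨a, hHB ha⟩, ha, ⟨b, hUB hb⟩, hb, ?_⟩
      exact Subtype.ext hab.symm
  have hcard : Nat.card B = Nat.card U * Nat.card H := by
    have h1 := hcompl.card_mul
    rw [Nat.card_congr (Subgroup.subgroupOfEquivOfLe hHB).toEquiv,
      Nat.card_congr (Subgroup.subgroupOfEquivOfLe hUB).toEquiv] at h1
    rw [← h1, mul_comm]
  have hxo : (Nat.card (Subgroup.zpowers (⟨x, hx⟩ : B))).Coprime (Nat.card H) := by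
    rw [Nat.card_zpowers]
    rw [← Subgroup.orderOf_coe]
    exact hxH
  obtain ⟨g, hg⟩ := Cfsg.Agent.Solvable.Hall.hall_conj_le (G := B) (Nat.card U) (Nat.card H) hcard
    hH.symm (U.subgroupOf B) (Subgroup.zpowers (⟨x, hx⟩ : B))
    (Nat.card_congr (Subgroup.subgroupOfEquivOfLe hUB).toEquiv) hxo
  have hgx : (g : G) * x * (g : G)⁻¹ ∈ U := by
    have h1 : (MulAut.conj g) (⟨x, hx⟩ : B) ∈ MulAut.conj g • Subgroup.zpowers (⟨x, hx⟩ : B) :=
      Subgroup.smul_mem_pointwise_smul _ _ _ (Subgroup.mem_zpowers _)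
    have h2 := hg h1
    rw [Subgroup.mem_subgroupOf] at h2
    simpa using h2
  refine ⟨U.map (MulAut.conj (g : G)⁻¹).toMonoidHom, ⟨hHB, ?_, ?_, ?_⟩, ?_⟩
  · rintro _ ⟨u, hu, rfl⟩
    have : (g : G)⁻¹ * u * (g : G)⁻¹⁻¹ ∈ B :=
      B.mul_mem (B.mul_mem (B.inv_mem g.2) (hUB hu)) (B.inv_mem (B.inv_mem g.2))
    exact this
  · rw [eq_bot_iff]
    rintro y ⟨hy1, u, hu, rfl⟩
    have h1 : (MulAut.conj (g : G)⁻¹).toMonoidHom u = (g : G)⁻¹ * u * (g : G)⁻¹⁻¹ := rfl
    rw [SetLike.mem_coe, h1] at hy1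
    have h2 : u ∈ H := by
      have h3 := (Subgroup.mem_normalizer_iff.1 (hHn g.2) _).1 hy1
      have h4 : (g : G) * ((g : G)⁻¹ * u * (g : G)⁻¹⁻¹) * (g : G)⁻¹ = u := by group
      rwa [h4] at h3
    have h3 : u ∈ H ⊓ U := ⟨h2, hu⟩
    rw [hinf, Subgroup.mem_bot] at h3
    rw [h3, map_one]; exact Subgroup.one_mem _
  · intro m hm
    obtain ⟨a, ha, b, hb, hab⟩ := hmul (g * m * (g : G)⁻¹)
      (B.mul_mem (B.mul_mem g.2 hm) (B.inv_mem g.2))
    refine ⟨(g : G)⁻¹ * a * g, ?_, (g : G)⁻¹ * b * g, ⟨b, hb, ?_⟩, ?_⟩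
    · have h3 := (Subgroup.mem_normalizer_iff.1 (hHn (B.inv_mem g.2)) _).1 ha
      rwa [inv_inv] at h3
    · change (g : G)⁻¹ * b * (g : G)⁻¹⁻¹ = _
      rw [inv_inv]
    · have : m = (g : G)⁻¹ * (g * m * (g : G)⁻¹) * g := by group
      rw [this, hab]; group
  · refine ⟨_, hgx, ?_⟩
    change (g : G)⁻¹ * (g * x * (g : G)⁻¹) * (g : G)⁻¹⁻¹ = x
    group

theorem isComplIn_of_isComplement' {M : Subgroup G} {A B : Subgroup M}
    (h : Subgroup.IsComplement' A B) : IsComplIn (A.map M.subtype) (B.map M.subtype) M := by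
  refine ⟨?_, ?_, ?_, ?_⟩
  · rintro _ ⟨a, -, rfl⟩; exact a.2
  · rintro _ ⟨a, -, rfl⟩; exact a.2
  · rw [← Subgroup.map_inf _ _ _ M.subtype_injective, h.isCompl.inf_eq_bot, Subgroup.map_bot]
  · intro m hm
    obtain ⟨⟨a, b⟩, hab⟩ := h.surjective (⟨m, hm⟩ : M)
    refine ⟨a.1, ⟨a.1, a.2, rfl⟩, b.1, ⟨b.1, b.2, rfl⟩, ?_⟩
    exact (congrArg (M.subtype) hab).symm

theorem ne_one_of_mem_typeA' {M : Subgroup G} {x : G} (hx : x ∈ typeA' M) : x ≠ 1 := by
  rintro rfl
  exact one_not_mem_typeA' M hx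

/-- Every element of `A'(M)` commutes with a nonidentity element of `M_s`. -/
theorem exists_commute_of_mem_typeA' {M : Subgroup G} {x : G} (hx : x ∈ typeA' M) :
    ∃ y ∈ typeCore M, y ≠ 1 ∧ x * y = y * x := by
  by_cases h : IsOfTypeP M
  · exact ((mem_typeA'_of_P h).1 hx).2.2
  · rw [typeCore_of_not_P h]
    exact ((mem_typeA'_of_not_P h).1 hx).2.2

/-- `A'(M)` is closed under nontrivial powers. -/
theorem pow_mem_typeA' {M : Subgroup G} {x : G} (hx : x ∈ typeA' M) (n : ℕ) (h1 : x ^ n ≠ 1) :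
    x ^ n ∈ typeA' M := by
  by_cases h : IsOfTypeP M
  · rw [mem_typeA'_of_P h] at hx ⊢
    obtain ⟨h2, -, y, hy, hy1, hxy⟩ := hx
    exact ⟨Subgroup.pow_mem _ h2 n, h1, y, hy, hy1, (Commute.pow_left hxy n)⟩
  · rw [mem_typeA'_of_not_P h] at hx ⊢
    obtain ⟨h2, -, y, hy, hy1, hxy⟩ := hx
    exact ⟨M.pow_mem h2 n, h1, y, hy, hy1, (Commute.pow_left hxy n)⟩

/-- If `A'(M)` contains an element outside `M_s` then `M` is of Type I' or II. -/
theorem typeI_or_typeII_of_mem_typeA' (hG : IsMinSimpleOddOrder G) {M : Subgroup G}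
    (hM : IsCoatom M) {x : G} (hx : x ∈ typeA' M) (hx1 : x ∉ typeCore M) :
    IsOfTypeI' M ∨ IsOfTypeII M := by
  by_cases hP : IsOfTypeP M
  · right
    by_contra hII
    apply hx1
    obtain ⟨h1, -, h3⟩ := typeA'_eq_of_not_typeII hG hM hP hII
    rw [h3] at hx
    rw [h1]
    exact hx.1
  · exact Or.inl ((typeI'_iff hG hM).2 hP)

theorem orderOf_dvd_card_of_mem {H : Subgroup G} {x : G} (hx : x ∈ H) :
    orderOf x ∣ Nat.card H := by
  rw [← Subgroup.orderOf_mk x hx]; exact orderOf_dvd_natCard _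

theorem typeCore_of_typeI'_or_typeII {M : Subgroup G} (h : IsOfTypeI' M ∨ IsOfTypeII M) :
    typeCore M = fittingHallOf M := by
  rcases h with h | h
  · exact typeCore_of_I' h
  · exact typeCore_of_typeII h

/-- The order of a complement of `M_F` in `B ≥ M_F` is prime to `|M_F|`. -/
theorem coprime_card_compl (hG : IsMinSimpleOddOrder G) {T : Subgroup G} (hT : IsCoatom T)
    (B U : Subgroup G) (hc : IsComplIn (fittingHallOf T) U B) :
    (Nat.card (fittingHallOf T)).Coprime (Nat.card U) := by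
  have hhall : (Nat.card (fittingHallOf T)).Coprime (fittingHallOf T).index :=
    (S1389.result hG T hT).2.1
  apply Nat.Coprime.coprime_dvd_right _ hhall
  -- |U| divides [G : T_F] since U ∩ T_F = 1 and U T_F = B
  have h1 : (fittingHallOf T).relIndex B = Nat.card U := by
    have hcompl : Subgroup.IsComplement' ((fittingHallOf T).subgroupOf B) (U.subgroupOf B) := by
      apply Subgroup.isComplement'_of_disjoint_and_mul_eq_univ
      · rw [disjoint_iff]
        ext ⟨y, hy⟩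
        simp only [Subgroup.mem_inf, Subgroup.mem_subgroupOf, Subgroup.mem_bot]
        have : y ∈ fittingHallOf T ⊓ U ↔ y ∈ (⊥ : Subgroup G) := by rw [hc.2.2.1]
        rw [Subgroup.mem_inf, Subgroup.mem_bot] at this
        rw [this, Subtype.ext_iff]
        rfl
      · rw [Set.eq_univ_iff_forall]
        rintro ⟨y, hy⟩
        obtain ⟨a, ha, b, hb, hab⟩ := hc.2.2.2 y hy
        refine ⟨⟨a, hc.1 ha⟩, ha, ⟨b, hc.2.1 hb⟩, hb, ?_⟩
        exact Subtype.ext hab.symm
    rw [Subgroup.relIndex, hcompl.symm.index_eq_card]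
    exact Nat.card_congr (Subgroup.subgroupOfEquivOfLe hc.2.1).toEquiv
  rw [← h1]
  exact Subgroup.relIndex_dvd_index_of_le hc.1

/-- The key uniqueness statement: an element of `A'(T)` of order prime to `|T_s|` has its
centraliser in `T` and in no other maximal subgroup. -/
theorem centralizer_unique (hG : IsMinSimpleOddOrder G) {T : Subgroup G} (hT : IsCoatom T) {x : G}
    (hx : x ∈ typeA' T) (hxo : (orderOf x).Coprime (Nat.card (typeCore T))) :
    Subgroup.centralizer ({x} : Set G) ≤ T ∧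
      ∀ L : Subgroup G, IsCoatom L → Subgroup.centralizer ({x} : Set G) ≤ L → L = T := by
  classical
  have hx1 : x ≠ 1 := ne_one_of_mem_typeA' hx
  have hxT : x ∉ typeCore T := by
    intro h
    have h2 := Nat.Coprime.eq_one_of_dvd hxo (orderOf_dvd_card_of_mem h)
    exact hx1 (orderOf_eq_one_iff.1 h2)
  have htype := typeI_or_typeII_of_mem_typeA' hG hT hx hxT
  have hcore : typeCore T = fittingHallOf T := typeCore_of_typeI'_or_typeII htype
  rw [hcore] at hxo
  obtain ⟨y, hy, hy1, hxy⟩ := exists_commute_of_mem_typeA' hx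
  rw [hcore] at hy
  have hinf : fittingHallOf T ⊓ Subgroup.centralizer ({x} : Set G) ≠ ⊥ := by
    intro h
    have : y ∈ fittingHallOf T ⊓ Subgroup.centralizer ({x} : Set G) := by
      refine Subgroup.mem_inf.2 ⟨hy, ?_⟩
      rw [Subgroup.mem_centralizer_iff]
      rintro _ rfl
      exact hxy
    rw [h, Subgroup.mem_bot] at this
    exact hy1 this
  have hTF : T ≤ Subgroup.normalizer ((fittingHallOf T : Subgroup G) : Set G) :=
    TypeSetsBasic.le_normalizer_fittingHallOf T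
  have hcop := coprime_card_compl hG hT
  have huniq : ∃ U : Subgroup G, x ∈ U ∧
      ((IsOfTypeI' T ∧ IsComplIn (fittingHallOf T) U T) ∨
        (IsOfTypeII T ∧ IsComplIn (fittingHallOf T) U ⁅T, T⁆)) := by
    rcases htype with h | h
    · obtain ⟨⟨-, -, -, -, U, -, hU, -⟩, -⟩ := id h
      have hc := isComplIn_of_isComplement' hU
      change IsComplIn (fittingHallOf T) _ T at hc
      obtain ⟨U', hU', hxU'⟩ := exists_compl_mem (hG.2.2.2 T hT.1) hc.1 hc.2.1 hTF hc.2.2.1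
        hc.2.2.2 (hcop _ _ hc) (typeA'_subset T hx) hxo
      exact ⟨U', hxU', Or.inl ⟨h, hU'⟩⟩
    · obtain ⟨W₁, U, W₂, hP, -⟩ := id h
      have hc := hP.U_compl
      have hle : ⁅T, T⁆ ≤ T := Subgroup.commutator_le_self T
      have hsol : Group.IsSolvable ↥⁅T, T⁆ := by
        apply hG.2.2.2
        exact (lt_of_le_of_lt hle hT.lt_top).ne
      have hxT' : x ∈ ⁅T, T⁆ := by
        rw [mem_typeA'_of_P (typeP_of_typeII h)] at hx
        exact hx.1
      obtain ⟨U', hU', hxU'⟩ := exists_compl_mem hsol hc.1 hc.2.1 (hle.trans hTF) hc.2.2.1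
        hc.2.2.2 (hcop _ _ hc) hxT' hxo
      exact ⟨U', hxU', Or.inr ⟨h, hU'⟩⟩
  obtain ⟨U, hxU, hU⟩ := huniq
  have := (S1390w.result' hG T hT U hU).2.1 {x} (by
    rintro _ rfl
    exact ⟨hxU, hx1⟩) ⟨x, rfl⟩ hinf
  exact this

/-- Part (a): centralisers of elements of `A₁(S) ∩ A'(T)`. -/
theorem part_a (hG : IsMinSimpleOddOrder G) {S T : Subgroup G} (hS : IsCoatom S) (hT : IsCoatom T)
    (hnc : ∀ g : G, T ≠ S.map (MulAut.conj g).toMonoidHom) (hne : S ≠ T) {x : G}
    (hx1 : x ∈ typeA1 S) (hx : x ∈ typeA' T) :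
    ¬ Subgroup.centralizer ({x} : Set G) ≤ S ∧ Subgroup.centralizer ({x} : Set G) ≤ T := by
  have hco : (orderOf x).Coprime (Nat.card (typeCore T)) :=
    Nat.Coprime.coprime_dvd_left (orderOf_dvd_card_of_mem hx1.1) (coprime_typeCore hG hS hT hnc)
  obtain ⟨h1, h2⟩ := centralizer_unique hG hT hx hco
  exact ⟨fun h => hne (h2 S hS h), h1⟩

theorem typeA1_subset (hG : IsMinSimpleOddOrder G) {M : Subgroup G} (hM : IsCoatom M) :
    typeA1 M ⊆ typeA' M := by
  intro a ha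
  rw [mem_typeA1] at ha
  by_cases hP : IsOfTypeP M
  · rw [mem_typeA'_of_P hP]
    exact ⟨typeCore_le_derived hG hM ha.1, ha.2, a, ha.1, ha.2, rfl⟩
  · rw [mem_typeA'_of_not_P hP]
    exact ⟨TypeSetsBasic.typeCore_le M ha.1, ha.2, a, typeCore_of_not_P hP ▸ ha.1, ha.2, rfl⟩

theorem supports_iff (hG : IsMinSimpleOddOrder G) {S T : Subgroup G} (hS : IsCoatom S)
    (hT : IsCoatom T) (hnc : ∀ g : G, T ≠ S.map (MulAut.conj g).toMonoidHom) (hne : S ≠ T) :
    Supports' T S ↔ (typeA1 S ∩ typeA' T).Nonempty := by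
  constructor
  · rintro ⟨-, x, hx, h1, h2⟩
    obtain ⟨-, hb, hc⟩ := S1391w.result' hG S hS _ (Or.inr rfl)
    exact ⟨x, (hb x hx h1).1, (hc x hx h1 T hT h2).2.2.2.2.1.1⟩
  · rintro ⟨x, hx1, hx⟩
    obtain ⟨h1, h2⟩ := part_a hG hS hT hnc hne hx1 hx
    exact ⟨hT, x, typeA'_subset_typeA0' S (typeA1_subset hG hS hx1), h1, h2⟩

/-- If `r` commutes with `a` and has coprime order then `a` is a power of `a * r`. -/
theorem exists_pow_eq {a r : G} (h : a * r = r * a) (hco : (orderOf a).Coprime (orderOf r)) :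
    ∃ n : ℕ, a = (a * r) ^ n := by
  obtain ⟨k, hk1, hk2⟩ := Nat.chineseRemainder hco 1 0
  refine ⟨k, ?_⟩
  have hc : Commute a r := h
  rw [hc.mul_pow]
  have h1 : a ^ k = a := by
    have := pow_eq_pow_iff_modEq.2 hk1
    rwa [pow_one] at this
  have h2 : r ^ k = 1 := by
    have := pow_eq_pow_iff_modEq.2 hk2
    rwa [pow_zero] at this
  rw [h1, h2, mul_one]

theorem nonconj_symm {S T : Subgroup G}
    (hnc : ∀ g : G, T.map (MulAut.conj g).toMonoidHom ≠ S) (g : G) :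
    T ≠ S.map (MulAut.conj g).toMonoidHom := by
  rintro rfl
  apply hnc g⁻¹
  have := map_symm_map (MulAut.conj g) S
  have h2 : (MulAut.conj g).symm = MulAut.conj g⁻¹ := by rw [map_inv]; rfl
  rwa [h2] at this

theorem map_conj_map_conj (S : Subgroup G) (g h : G) :
    (S.map (MulAut.conj g).toMonoidHom).map (MulAut.conj h).toMonoidHom =
      S.map (MulAut.conj (h * g)).toMonoidHom := by
  rw [Subgroup.map_map, map_mul]; rfl

theorem part_b (hG : IsMinSimpleOddOrder G) {S T : Subgroup G} (hS : IsCoatom S) (hT : IsCoatom T)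
    (hnc : ∀ g : G, T.map (MulAut.conj g).toMonoidHom ≠ S) :
    (∃ g : G, Supports' (T.map (MulAut.conj g).toMonoidHom) S) ↔
      (tildeOf S (typeA1 S) ∩ tildeOf T (typeA' T)).Nonempty := by
  have hTg : ∀ g : G, IsCoatom (T.map (MulAut.conj g).toMonoidHom) := fun g =>
    (isCoatom_map (MulAut.conj g) T).2 hT
  have hncg : ∀ g h : G, (T.map (MulAut.conj g).toMonoidHom) ≠
      S.map (MulAut.conj h).toMonoidHom := by
    intro g
    apply nonconj_symm
    intro h
    rw [map_conj_map_conj]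
    exact hnc _
  have hsupp : ∀ g : G, Supports' (T.map (MulAut.conj g).toMonoidHom) S ↔
      (typeA1 S ∩ typeA' (T.map (MulAut.conj g).toMonoidHom)).Nonempty := fun g =>
    supports_iff hG hS (hTg g) (hncg g) (fun h => hnc g h.symm)
  constructor
  · rintro ⟨g, hg⟩
    obtain ⟨x, hx1, hx⟩ := (hsupp g).1 hg
    refine ⟨x, ⟨x, hx1, 1, Subgroup.one_mem _, 1, by simp⟩, ?_⟩
    rw [typeA'_map] at hx
    obtain ⟨z, hz, rfl⟩ := hx
    exact ⟨z, hz, 1, Subgroup.one_mem _, g, by simp⟩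
  · rintro ⟨v, hv1, hv⟩
    obtain ⟨b, hb, s, hs, y', hvb⟩ := id hv
    have hb1 : b ∉ typeA1 T := by
      intro hb1
      have hd := disjoint_tildeOf_typeA1 hG hS hT (nonconj_symm hnc)
      have : v ∈ tildeOf S (typeA1 S) ∩ tildeOf T (typeA1 T) :=
        ⟨hv1, b, hb1, s, hs, y', hvb⟩
      rw [hd] at this
      exact this
    have hbT : Subgroup.centralizer ({b} : Set G) ≤ T := by
      by_contra hcb
      exact hb1 ((S1391w.result' hG T hT _ (Or.inl rfl)).2.1 b hb hcb).1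
    rw [supportR_eq_bot_of_le T b hbT, Subgroup.mem_bot] at hs
    subst hs
    rw [mul_one] at hvb
    obtain ⟨a, ha, r, hr, y, hva⟩ := hv1
    refine ⟨y⁻¹ * y', (hsupp _).2 ⟨a, ha, ?_⟩⟩
    have har : a * r = MulAut.conj (y⁻¹ * y') b := by
      rw [MulAut.conj_apply]
      have h1 : y * (a * r) * y⁻¹ = y' * b * y'⁻¹ := by rw [← hva, ← hvb]
      have h2 : a * r = y⁻¹ * (y * (a * r) * y⁻¹) * y := by group
      rw [h2, h1]; group
    have hmem : a * r ∈ typeA' (T.map (MulAut.conj (y⁻¹ * y')).toMonoidHom) := by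
      rw [typeA'_map, har]; exact ⟨b, hb, rfl⟩
    have hn : ∃ n : ℕ, a = (a * r) ^ n := by
      by_cases hcs : Subgroup.centralizer ({a} : Set G) ≤ S
      · rw [supportR_eq_bot_of_le S a hcs, Subgroup.mem_bot] at hr
        subst hr
        exact ⟨1, by simp⟩
      · have ha' : a ∈ typeA' S := typeA1_subset hG hS ha
        obtain ⟨-, hu, hc⟩ := S1391w.result' hG S hS _ (Or.inl rfl)
        obtain ⟨L, ⟨hL, haL⟩, huL⟩ := (hu a ha' hcs).2
        rw [supportR_eq S a L hcs hL haL (fun L' h h' => huL L' ⟨h, h'⟩)] at hr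
        have hco := (hc a ha' hcs L hL haL).2.2.2.1 a ha'
        have hra : a * r = r * a := (Subgroup.mem_centralizer_iff.1 hr.2 a rfl)
        apply exists_pow_eq hra
        apply Nat.Coprime.symm
        refine Nat.Coprime.coprime_dvd_left (orderOf_dvd_card_of_mem hr.1)
          (Nat.Coprime.coprime_dvd_right (orderOf_dvd_card_of_mem (x := a) ?_) hco)
        refine Subgroup.mem_inf.2 ⟨typeA'_subset S ha', ?_⟩
        rw [Subgroup.mem_centralizer_iff]
        rintro _ rfl; rfl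
    obtain ⟨n, hn⟩ := hn
    rw [hn]
    apply pow_mem_typeA' hmem
    rw [← hn]
    exact ha.2

theorem result' {G : Type*} [Group G] [Finite G] (hG : Cfsg.IsMinSimpleOddOrder G) (S T : Subgroup G) (hS : IsCoatom S) (hT : IsCoatom T) (hnc : ∀ g : G, T.map (MulAut.conj g).toMonoidHom ≠ S) : (Supports' T S ↔ (Cfsg.typeA1 S ∩ typeA' T).Nonempty) ∧ (∀ x ∈ Cfsg.typeA1 S ∩ typeA' T, ¬ Subgroup.centralizer ({x} : Set G) ≤ S ∧ Subgroup.centralizer ({x} : Set G) ≤ T) ∧ ((∃ g : G, Supports' (T.map (MulAut.conj g).toMonoidHom) S) ↔ (Cfsg.tildeOf S (Cfsg.typeA1 S) ∩ Cfsg.tildeOf T (typeA' T)).Nonempty) ∧ (Cfsg.tildeOf S (Cfsg.typeA1 S) ∩ Cfsg.tildeOf T (typeA' T) = ∅ ∨ Cfsg.tildeOf T (Cfsg.typeA1 T) ∩ Cfsg.tildeOf S (typeA' S) = ∅) := by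
  have hne : S ≠ T := by
    rintro rfl
    apply hnc 1
    rw [map_one]
    exact Subgroup.map_id S
  have hnc' := nonconj_symm hnc
  have hncS : ∀ g : G, S.map (MulAut.conj g).toMonoidHom ≠ T := fun g h => hnc' g h.symm
  refine ⟨supports_iff hG hS hT hnc' hne, fun x hx => part_a hG hS hT hnc' hne hx.1 hx.2,
    part_b hG hS hT hnc, ?_⟩
  by_contra hcon
  rw [not_or, ← Ne, ← Ne, ← Set.nonempty_iff_ne_empty, ← Set.nonempty_iff_ne_empty,
    ← part_b hG hS hT hnc, ← part_b hG hT hS hncS] at hcon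
  obtain ⟨⟨g, hg⟩, ⟨h, hh⟩⟩ := hcon
  -- from the first: |(T^g)_F| is coprime to |C_S(y)| for y in A(S), and T^g is of type I or II
  obtain ⟨hTg, x, hx, h1, h2⟩ := hg
  obtain ⟨-, -, hc⟩ := S1391w.result' hG S hS _ (Or.inr rfl)
  have hc' := hc x hx h1 _ hTg h2
  have hcore : typeCore (T.map (MulAut.conj g).toMonoidHom) =
      fittingHallOf (T.map (MulAut.conj g).toMonoidHom) := by
    exact typeCore_of_typeI'_or_typeII hc'.2.2.2.2.2.1
  have hcardcore : Nat.card (fittingHallOf (T.map (MulAut.conj g).toMonoidHom)) =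
      Nat.card (typeCore T) := by
    rw [← hcore, typeCore_map, card_map_equiv]
  -- from the second
  have hSh : IsCoatom (S.map (MulAut.conj h).toMonoidHom) := (isCoatom_map (MulAut.conj h) S).2 hS
  have hncSh : ∀ k : G, S.map (MulAut.conj h).toMonoidHom ≠ T.map (MulAut.conj k).toMonoidHom := by
    apply nonconj_symm
    intro k
    rw [map_conj_map_conj]
    exact hncS _
  obtain ⟨x', hx'1, hx'⟩ := (supports_iff hG hT hSh hncSh (fun hh' => hncS h hh'.symm)).1 hh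
  rw [typeA'_map] at hx'
  obtain ⟨z, hz, rfl⟩ := hx'
  have hco := hc'.2.2.2.1 z (typeA'_subset_typeA0' S hz)
  rw [hcardcore] at hco
  have h3 : orderOf z ∣ Nat.card (typeCore T) := by
    have := orderOf_dvd_card_of_mem hx'1.1
    rwa [MulEquiv.orderOf_eq] at this
  have h4 : orderOf z ∣ Nat.card ↥(S ⊓ Subgroup.centralizer ({z} : Set G)) := by
    apply orderOf_dvd_card_of_mem
    refine Subgroup.mem_inf.2 ⟨typeA'_subset S hz, ?_⟩
    rw [Subgroup.mem_centralizer_iff]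
    rintro _ rfl; rfl
  have h5 := Nat.Coprime.eq_one_of_dvd (Nat.Coprime.coprime_dvd_left h3 hco) h4
  exact ne_one_of_mem_typeA' hz (orderOf_eq_one_iff.1 h5)

end Cfsg.Agent.OddOrderLocal.W.S1539w
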