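import Cfsg.Agent.OddOrderCharacters.PF8.DadeHyp

/-!
# Internal form of S1537 (Peterfalvi (8.15)), for the primed sets of `PFDefs`
-/

set_option autoImplicit false
open Cfsg Cfsg.Agent.OddOrderCharacters.PFDefs

namespace Cfsg.Agent.OddOrderLocal.W.S1537w

/-- Peterfalvi (8.15): the Dade hypothesis for `A₁(M)`, `A'(M)`, `A₀'(M)`. -/
theorem result' {G : Type*} [Group G] [Finite G] (hG : IsMinSimpleOddOrder G) (M : Subgroup G)
    (hM : IsCoatom M) (A : Set G) (hA : A = typeA1 M ∨ A = typeA' M ∨ A = typeA0' M) :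
    Subgroup.normalizer A = M ∧ DadeHypothesis A M (supportR M) := by
  obtain ⟨h0, h1, h2⟩ := Cfsg.Agent.OddOrderCharacters.PF8.normalizer_typeA0 hG hM
  rcases hA with rfl | rfl | rfl
  · exact ⟨h2, Cfsg.Agent.OddOrderCharacters.PF8.dadeHyp_typeA1 hG hM⟩
  · exact ⟨h1, Cfsg.Agent.OddOrderCharacters.PF8.dadeHyp_typeA hG hM⟩
  · exact ⟨h0, Cfsg.Agent.OddOrderCharacters.PF8.dadeHyp_typeA0 hG hM⟩

end Cfsg.Agent.OddOrderLocal.W.S1537w
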